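import Groth.Agent.Lib.RelProj11.GradeSub
import Groth.Agent.Lib.EGA2.Graded

/-!
Graded rings of finite type: Veronese subrings generated in one degree.
-/

universe u

open DirectSum SetLike Pointwise

namespace Groth.Agent.GrGen11

section Sub

variable {R A : Type u} [CommRing R] [CommRing A] [Algebra R A]
  (𝒜 : ℕ → Submodule R A) [GradedAlgebra 𝒜] [Algebra.FiniteType (𝒜 0) A]

/-- Each piece is finitely generated over degree zero. -/
theorem exists_gens (n : ℕ) :
    ∃ T : Finset A, (↑T : Set A) ⊆ 𝒜 n ∧ ∀ x ∈ 𝒜 n, ∃ c : A → A, (∀ t, c t ∈ 𝒜 0) ∧ x = ∑ t ∈ T, c t * t := by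
  classical
  obtain ⟨s, hE, -, hspan⟩ := EGA2.exists_homogeneous_gens 𝒜
  choose! e he hmem using hE
  induction n using Nat.strong_induction_on with
  | _ n ih =>
    rcases Nat.eq_zero_or_pos n with rfl | hn
    · refine ⟨{1}, fun x hx => ?_, fun x hx => ⟨fun _ => x, fun _ => hx, by simp⟩⟩
      rw [Finset.coe_singleton, Set.mem_singleton_iff] at hx
      exact hx ▸ SetLike.one_mem_graded 𝒜
    choose! T hT hgen using ih
    let T' : Finset A := (s.filter fun i => e i ≤ n).biUnion fun i => (T (n - e i)).image (i * ·)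
    have hT' : (↑T' : Set A) ⊆ 𝒜 n := fun x hx => by
      simp only [T', Finset.coe_biUnion, Finset.coe_filter, Finset.coe_image, Set.mem_iUnion,
        Set.mem_setOf_eq, Set.mem_image] at hx
      obtain ⟨i, ⟨hi, hin⟩, t, ht, rfl⟩ := hx
      have h1 := SetLike.mul_mem_graded (hmem i hi) (hT _ (Nat.sub_lt hn (he i hi)) ht)
      rwa [Nat.add_sub_cancel' hin] at h1
    refine ⟨T', hT', fun x hx => ?_⟩
    have hsum : ∀ y, y ∈ Submodule.span (𝒜 0) (↑T' : Set A) →
        ∃ c : A → A, (∀ t, c t ∈ 𝒜 0) ∧ y = ∑ t ∈ T', c t * t := by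
      intro y hy
      obtain ⟨f, -, hf⟩ := Submodule.mem_span_finset.1 hy
      exact ⟨fun t => (f t : A), fun t => (f t).2, hf.symm.trans (Finset.sum_congr rfl fun t _ => rfl)⟩
    refine hsum x ?_
    have hxs : x ∈ Ideal.span (s : Set A) := hspan ▸ EGA2.mem_irr_of_mem 𝒜 hn hx
    obtain ⟨a, -, ha⟩ := Submodule.mem_span_finset.1 hxs
    rw [← DirectSum.decompose_of_mem_same 𝒜 hx, ← ha, DirectSum.decompose_sum, DFinsupp.finsetSum_apply,
      AddSubmonoidClass.coe_finsetSum]
    refine Submodule.sum_mem _ fun i hi => ?_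
    rw [smul_eq_mul, DirectSum.coe_decompose_mul_of_right_mem 𝒜 n (hmem i hi)]
    split
    · rename_i hin
      obtain ⟨c, hc, hsum'⟩ := hgen _ (Nat.sub_lt hn (he i hi)) _ (decompose 𝒜 (a i) (n - e i)).2
      rw [hsum', Finset.sum_mul]
      refine Submodule.sum_mem _ fun t ht => ?_
      rw [show c t * t * i = (⟨c t, hc t⟩ : 𝒜 0) • (i * t) from
        (by show c t * t * i = c t * (i * t); ring)]
      refine Submodule.smul_mem _ _ (Submodule.subset_span ?_)
      simp only [T', Finset.coe_biUnion, Finset.coe_filter, Finset.coe_image, Set.mem_iUnion,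
        Set.mem_setOf_eq, Set.mem_image]
      exact ⟨i, ⟨hi, hin⟩, t, ht, rfl⟩
    · exact zero_mem _

end Sub

variable {R A : Type u} [CommRing R] [CommRing A] (str : R →+* A)
  (𝒜 : ℕ → AddSubgroup A) [GradedRing 𝒜]

/-- Periods of a graded ring of finite type. -/
theorem exists_period (h : ∀ r, str r ∈ 𝒜 0) (hft : str.FiniteType) :
    ∃ l n₁ : ℕ, 0 < l ∧ ∀ j, 0 < j → ∀ n, n₁ ≤ n →
      AddSubgroup.toIntSubmodule (𝒜 (n + j * l)) =
        AddSubgroup.toIntSubmodule (𝒜 (j * l)) * AddSubgroup.toIntSubmodule (𝒜 n) := by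
  letI := str.toAlgebra
  haveI : Algebra.FiniteType R A := hft
  let ℳ := RelProj11.gradeSub R 𝒜 h
  haveI : IsScalarTower R (ℳ 0) A := ⟨fun r x y => smul_mul_assoc r (x : A) y⟩
  haveI : Algebra.FiniteType (ℳ 0) A := Algebra.FiniteType.of_restrictScalars_finiteType R (ℳ 0) A
  haveI : Module.Finite A A := inferInstance
  obtain ⟨l, n₁, hl, hper⟩ := EGA2.exists_eventually_periodic ℳ ℳ
  refine ⟨l, n₁, hl, fun j hj n hn => le_antisymm (fun x hx => ?_) (Submodule.mul_le.2 fun a ha b hb => ?_)⟩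
  · have hx' : x ∈ ℳ (n + j * l) := hx
    rw [EGA2.periodic_mul ℳ ℳ hl hper j hj n hn] at hx'
    refine Submodule.smul_induction_on hx' (fun a ha b hb => ?_) fun y z hy hz => add_mem hy hz
    exact Submodule.mul_mem_mul ha hb
  · rw [add_comm]; exact SetLike.mul_mem_graded (A := 𝒜) ha hb

/-- A piece of a graded ring of finite type is finitely generated over degree zero. -/
theorem exists_finset (h : ∀ r, str r ∈ 𝒜 0) (hft : str.FiniteType) (d : ℕ) :
    ∃ T : Finset A, (↑T : Set A) ⊆ (𝒜 d : Set A) ∧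
      AddSubgroup.toIntSubmodule (𝒜 d) =
        AddSubgroup.toIntSubmodule (𝒜 0) * Submodule.span ℤ (↑T : Set A) := by
  letI := str.toAlgebra
  haveI : Algebra.FiniteType R A := hft
  let ℳ := RelProj11.gradeSub R 𝒜 h
  haveI : IsScalarTower R (ℳ 0) A := ⟨fun r x y => smul_mul_assoc r (x : A) y⟩
  haveI : Algebra.FiniteType (ℳ 0) A := Algebra.FiniteType.of_restrictScalars_finiteType R (ℳ 0) A
  obtain ⟨T, hT, hgen⟩ := exists_gens ℳ d
  refine ⟨T, hT, le_antisymm (fun x hx => ?_) (Submodule.mul_le.2 fun a ha b hb => ?_)⟩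
  · obtain ⟨c, hc, rfl⟩ := hgen x hx
    exact Submodule.sum_mem _ fun t ht => Submodule.mul_mem_mul (hc t) (Submodule.subset_span ht)
  · have hsub : Submodule.span ℤ (↑T : Set A) ≤ AddSubgroup.toIntSubmodule (𝒜 d) := by
      rw [Submodule.span_le]
      exact hT
    have hb' : b ∈ AddSubgroup.toIntSubmodule (𝒜 d) := hsub hb
    have := SetLike.mul_mem_graded (A := 𝒜) (show a ∈ 𝒜 0 from ha) hb'
    rwa [zero_add] at this

end Groth.Agent.GrGen11
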